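import Groth.Agent.DimFormulaLib.Scheme
import Groth.Agent.FibreDimEt.Zero
import Groth.Agent.NearGen.Dim

/-!
# Combinatorial dimension of topological spaces
-/

set_option autoImplicit false
set_option backward.isDefEq.respectTransparency false

universe u

open TopologicalSpace Order Topology

namespace Groth.Agent.TopDimLib

variable {X : Type u} [TopologicalSpace X]

theorem upperSemicontinuous_localDim : UpperSemicontinuous fun x : X => FlatMor.localDim X x := by
  intro x c hc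
  obtain ⟨U, hU⟩ := iInf_lt_iff.1 (show (⨅ U : {U : Opens X // x ∈ U}, topologicalKrullDim (U.1 : Set X)) < c from hc)
  filter_upwards [U.1.isOpen.mem_nhds U.2] with y hy
  exact lt_of_le_of_lt (iInf_le_of_le ⟨U.1, hy⟩ le_rfl) hU

theorem topologicalKrullDim_eq_iSup_closed {ι : Type*} (Y : ι → Set X) (hY : ∀ i, IsClosed (Y i))
    (hlf : LocallyFinite Y) (hcov : ⋃ i, Y i = Set.univ) :
    topologicalKrullDim X = ⨆ i, topologicalKrullDim (Y i) := by
  refine le_antisymm (iSup_le fun s => ?_) (iSup_le fun i => topologicalKrullDim_subspace_le X _)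
  obtain ⟨z, hz⟩ := s.last.2.nonempty
  obtain ⟨W, hW, hfin⟩ := hlf z
  obtain ⟨O, hOW, hO, hzO⟩ := mem_nhds_iff.1 hW
  have hdense := subset_closure_inter_of_isPreirreducible_of_isOpen s.last.2.2 hO ⟨z, hz, hzO⟩
  let F : Finset (Set X) := hfin.toFinset.image Y
  have hF : ∀ t ∈ F, IsClosed t := fun t ht => by
    obtain ⟨i, -, rfl⟩ := Finset.mem_image.1 ht
    exact hY i
  have hsub : (s.last : Set X) ∩ O ⊆ ⋃₀ ↑F := by
    rintro x ⟨-, hxO⟩
    obtain ⟨i, hi⟩ := Set.mem_iUnion.1 (hcov ▸ Set.mem_univ x : x ∈ ⋃ i, Y i)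
    exact ⟨Y i, Finset.mem_image_of_mem Y (hfin.mem_toFinset.2 ⟨x, hi, hOW hxO⟩), hi⟩
  obtain ⟨t, ht, hle⟩ := isIrreducible_iff_sUnion_isClosed.1 s.last.2 F hF
    (hdense.trans (closure_minimal hsub (by
      rw [Set.sUnion_eq_biUnion]
      exact F.finite_toSet.isClosed_biUnion hF)))
  obtain ⟨i, -, rfl⟩ := Finset.mem_image.1 ht
  refine le_trans ?_ (le_iSup (fun i => topologicalKrullDim (Y i)) i)
  have hs : ∀ j, (s j : Set X) ⊆ Y i := fun j => (show (s j : Set X) ⊆ s.last from s.monotone (Fin.le_last j)).trans hle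
  have hirr : ∀ j, IsIrreducible ((Subtype.val : Y i → X) ⁻¹' (s j : Set X)) := fun j => by
    refine ⟨?_, fun u v hu hv => ?_⟩
    · obtain ⟨y, hy⟩ := (s j).2.nonempty
      exact ⟨⟨y, hs j hy⟩, hy⟩
    · obtain ⟨u', hu', rfl⟩ := isOpen_induced_iff.1 hu
      obtain ⟨v', hv', rfl⟩ := isOpen_induced_iff.1 hv
      rintro ⟨a, ha, hau⟩ ⟨b, hb, hbv⟩
      obtain ⟨y, hy, hyuv⟩ := (s j).2.2 u' v' hu' hv' ⟨a.1, ha, hau⟩ ⟨b.1, hb, hbv⟩
      exact ⟨⟨y, hs j hy⟩, hy, hyuv⟩
  let g : ∀ j, IrreducibleCloseds (Y i) := fun j =>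
    ⟨(Subtype.val : Y i → X) ⁻¹' (s j : Set X), hirr j, (s j).3.preimage continuous_subtype_val⟩
  refine le_iSup_of_le (⟨s.length, g, fun j => ?_⟩ : LTSeries (IrreducibleCloseds (Y i))) le_rfl
  have hst : s (Fin.castSucc j) < s j.succ := s.step j
  refine lt_of_le_not_ge (show g (Fin.castSucc j) ≤ g j.succ from fun y hy => hst.le hy)
    (fun hge : g j.succ ≤ g (Fin.castSucc j) => hst.not_ge fun x hx => ?_)
  exact hge (show (⟨x, hs j.succ hx⟩ : Y i) ∈ g j.succ from hx)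

theorem localDim_eq_iSup (x : X) {ι : Type u} [Finite ι] (Y : ι → Set X) (hY : ∀ i, IsClosed (Y i)) (hx : ∀ i, x ∈ Y i)
    (hcov : ⋃ i, Y i = Set.univ) :
    FlatMor.localDim X x = ⨆ i, FlatMor.localDim (Y i) ⟨x, hx i⟩ := by
  classical
  obtain ⟨i₀, -⟩ := Set.mem_iUnion.1 (hcov ▸ Set.mem_univ x : x ∈ ⋃ i, Y i)
  refine le_antisymm ?_ (iSup_le fun i => le_iInf fun U => ?_)
  · have hmin : ∀ i, ∃ V : Opens X, x ∈ V ∧
        topologicalKrullDim ((Y i : Set X) ∩ V : Set X) ≤ FlatMor.localDim (Y i) ⟨x, hx i⟩ := fun i => by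
      haveI : Nonempty {U : Opens (Y i) // (⟨x, hx i⟩ : Y i) ∈ U} := ⟨⟨⊤, trivial⟩⟩
      obtain ⟨⟨W, hW⟩, hWeq⟩ := ciInf_mem (fun U : {U : Opens (Y i) // (⟨x, hx i⟩ : Y i) ∈ U} =>
        topologicalKrullDim (U.1 : Set (Y i)))
      obtain ⟨V, hV, hVW⟩ := isOpen_induced_iff.1 W.isOpen
      refine ⟨⟨V, hV⟩, (show (⟨x, hx i⟩ : Y i) ∈ (↑) ⁻¹' V from hVW.symm ▸ hW), le_trans ?_ hWeq.le⟩
      have hmem : ∀ y : ((Y i : Set X) ∩ V : Set X), (⟨y.1, y.2.1⟩ : Y i) ∈ W := fun y =>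
        show (⟨y.1, y.2.1⟩ : Y i) ∈ (W : Set (Y i)) from hVW ▸ y.2.2
      refine IsInducing.topologicalKrullDim_le (f := fun y : ((Y i : Set X) ∩ V : Set X) =>
        (⟨⟨y.1, y.2.1⟩, hmem y⟩ : (W : Set (Y i)))) ?_
      exact IsInducing.of_comp (by fun_prop) (by fun_prop : Continuous fun z : (W : Set (Y i)) => (z.1.1 : X))
        IsInducing.subtypeVal
    choose V hxV hV using hmin
    let U : Opens X := ⟨⋂ i, (V i : Set X), isOpen_iInter_of_finite fun i => (V i).isOpen⟩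
    refine iInf_le_of_le ⟨U, Set.mem_iInter.2 hxV⟩ ?_
    rw [topologicalKrullDim_eq_iSup_closed (fun i => (Subtype.val : ↥(U : Set X) → X) ⁻¹' (Y i))
      (fun i => (hY i).preimage continuous_subtype_val) (locallyFinite_of_finite _)
      (by rw [← Set.preimage_iUnion, hcov, Set.preimage_univ])]
    refine iSup_le fun i => le_trans ?_ ((hV i).trans (le_iSup (fun i => FlatMor.localDim (Y i) ⟨x, hx i⟩) i))
    refine IsInducing.topologicalKrullDim_le (f := fun z : ((Subtype.val : ↥(U : Set X) → X) ⁻¹' (Y i) : Set (U : Set X)) =>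
      (⟨z.1.1, z.2, Set.mem_iInter.1 z.1.2 i⟩ : ((Y i : Set X) ∩ V i : Set X))) ?_
    refine IsInducing.of_comp (by fun_prop) continuous_subtype_val ?_
    have hii : IsInducing (fun z : ((Subtype.val : ↥(U : Set X) → X) ⁻¹' (Y i) : Set (U : Set X)) => (z.1.1 : X)) :=
      IsInducing.subtypeVal.comp IsInducing.subtypeVal
    exact hii
  · refine iInf_le_of_le ⟨⟨(Subtype.val : Y i → X) ⁻¹' (U.1 : Set X), U.1.isOpen.preimage continuous_subtype_val⟩, U.2⟩ ?_
    refine IsInducing.topologicalKrullDim_le (f := fun z : ((Subtype.val : Y i → X) ⁻¹' (U.1 : Set X) : Set (Y i)) =>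
      (⟨z.1.1, z.2⟩ : (U.1 : Set X))) ?_
    refine IsInducing.of_comp (by fun_prop) continuous_subtype_val ?_
    have hii : IsInducing (fun z : ((Subtype.val : Y i → X) ⁻¹' (U.1 : Set X) : Set (Y i)) => (z.1.1 : X)) :=
      IsInducing.subtypeVal.comp IsInducing.subtypeVal
    exact hii

theorem finite_discrete_of_le_zero [NoetherianSpace X] [T0Space X] (h : topologicalKrullDim X ≤ 0) :
    Finite X ∧ DiscreteTopology X := by
  have hmax := Order.krullDim_nonpos_iff_forall_isMax.1 h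
  have hsing : ∀ x : X, IsClosed ({x} : Set X) := fun x => by
    obtain ⟨c, hc, hcl⟩ := (isClosed_closure (s := ({x} : Set X))).exists_closed_singleton ⟨x, subset_closure rfl⟩
    have hle : (⟨{c}, isIrreducible_singleton, hcl⟩ : IrreducibleCloseds X) ≤
        ⟨closure {x}, isIrreducible_singleton.closure, isClosed_closure⟩ := Set.singleton_subset_iff.2 hc
    have hxc : x = c := hmax _ hle (subset_closure rfl : x ∈ closure ({x} : Set X))
    exact hxc ▸ hcl
  haveI : T1Space X := ⟨hsing⟩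
  have hfin : Finite X := by
    refine Set.finite_univ_iff.1 (((NoetherianSpace.finite_irreducibleComponents (α := X)).biUnion (t := fun Z => Z) fun Z hZ => ?_).subset
      (fun (x : X) _ => Set.mem_iUnion₂.2 ⟨_, irreducibleComponent_mem_irreducibleComponents x, mem_irreducibleComponent⟩))
    obtain ⟨c, hc⟩ := hZ.1.nonempty
    have hle : (⟨{c}, isIrreducible_singleton, hsing c⟩ : IrreducibleCloseds X) ≤
        ⟨Z, hZ.1, isClosed_of_mem_irreducibleComponents Z hZ⟩ := Set.singleton_subset_iff.2 hc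
    exact (Set.finite_singleton c).subset (hmax _ hle)
  exact ⟨hfin, inferInstance⟩

theorem eq_zero_iff_finite_discrete [NoetherianSpace X] [T0Space X] [Nonempty X] :
    topologicalKrullDim X = 0 ↔ Finite X ∧ DiscreteTopology X := by
  refine ⟨fun h => finite_discrete_of_le_zero h.le, fun ⟨_, _⟩ => ?_⟩
  exact le_antisymm (topologicalKrullDim_zero_of_discreteTopology X) FibreDimEt.nonneg_topologicalKrullDim

theorem isOpen_singleton_iff [NoetherianSpace X] [T0Space X] (x : X) :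
    IsOpen ({x} : Set X) ↔ FlatMor.localDim X x = 0 := by
  refine ⟨FibreDimEt.localDim_of_isOpen_singleton, fun h => ?_⟩
  haveI : Nonempty {U : Opens X // x ∈ U} := ⟨⟨⊤, trivial⟩⟩
  obtain ⟨U, hU⟩ := ciInf_mem (fun U : {U : Opens X // x ∈ U} => topologicalKrullDim (U.1 : Set X))
  have hU0 : topologicalKrullDim (U.1 : Set X) ≤ 0 := (hU.trans h).le
  obtain ⟨-, hd⟩ := finite_discrete_of_le_zero hU0
  have h2 := U.1.isOpen.isOpenEmbedding_subtypeVal.isOpenMap _ (isOpen_discrete ({⟨x, U.2⟩} : Set (U.1 : Set X)))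
  rwa [Set.image_singleton] at h2

end Groth.Agent.TopDimLib
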